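import Cfsg.Agent.SylOpp.Basic
import Cfsg.Agent.GLFlags.Unipotent
import Cfsg.Agent.UniTri.Basic
import Cfsg.Agent.Classical.LinearBasic

/-!
Opposition of Sylow subgroups in `PSL_n`.
-/

set_option autoImplicit false
set_option linter.unusedSectionVars false

namespace Cfsg.Agent.SylOpp

open Matrix
open scoped Pointwise MatrixGroups

universe u

variable {F : Type u} [Field F] {n : ℕ}

local notation:max "⇈" A:max => ((A : SpecialLinearGroup (Fin n) F) : Matrix (Fin n) (Fin n) F)

/-- Reindexing by the order reversal. -/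
def revAut : SpecialLinearGroup (Fin n) F ≃* SpecialLinearGroup (Fin n) F where
  toFun A := ⟨(⇈A).submatrix Fin.revPerm Fin.revPerm, by rw [Matrix.det_submatrix_equiv_self]; exact A.2⟩
  invFun A := ⟨(⇈A).submatrix Fin.revPerm Fin.revPerm, by rw [Matrix.det_submatrix_equiv_self]; exact A.2⟩
  left_inv A := Subtype.ext (Matrix.ext fun i j => by simp)
  right_inv A := Subtype.ext (Matrix.ext fun i j => by simp)
  map_mul' A B := Subtype.ext (by
    show (⇈A * ⇈B).submatrix Fin.revPerm Fin.revPerm = _
    rw [← Matrix.submatrix_mul_equiv _ _ _ Fin.revPerm _]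
    rfl)

theorem revAut_apply (A : SpecialLinearGroup (Fin n) F) (i j : Fin n) :
    ⇈(revAut A) i j = ⇈A i.rev j.rev := rfl

/-- Anti-diagonal part: `1` at the positions `(i, rev i)` with `i` in `s`. -/
def antiPart (s : Fin n → Prop) [DecidablePred s] : Matrix (Fin n) (Fin n) F :=
  Matrix.of fun i j => if j = i.rev ∧ s i then 1 else 0

theorem mul_antiPart (s : Fin n → Prop) [DecidablePred s] (M : Matrix (Fin n) (Fin n) F) (i j : Fin n) :
    (M * antiPart (F := F) s : Matrix (Fin n) (Fin n) F) i j = if s j.rev then M i j.rev else 0 := by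
  rw [Matrix.mul_apply, Finset.sum_eq_single j.rev]
  · simp [antiPart]
  · intro k _ hk
    have : ¬ (j = k.rev ∧ s k) := fun h => hk (by rw [h.1, Fin.rev_rev])
    simp [antiPart, this]
  · simp

theorem good_psl [Fintype F] (p : ℕ) [Fact p.Prime] [CharP F p] (hn : 2 ≤ n) :
    Good p (Matrix.ProjectiveSpecialLinearGroup (Fin n) F) := by
  classical
  obtain ⟨P, hP⟩ := UniTri.exists_sylow (n := n) (K := F) p
  let V₀ : Sylow p (SpecialLinearGroup (Fin n) F) :=
    P.mapSurjective (f := (revAut (F := F) (n := n)).toMonoidHom) revAut.surjective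
  have hV : ∀ A, A ∈ (V₀ : Subgroup (SpecialLinearGroup (Fin n) F)) ↔ revAut A ∈ UniTri.unitri n F := by
    intro A
    show A ∈ (P : Subgroup (SpecialLinearGroup (Fin n) F)).map (revAut (F := F) (n := n)).toMonoidHom ↔ _
    rw [hP]
    constructor
    · rintro ⟨B, hB, rfl⟩
      rwa [show revAut ((revAut (F := F) (n := n)).toMonoidHom B) = B from
        Subtype.ext (Matrix.ext fun i j => by simp [revAut_apply])]
    · intro h
      exact ⟨revAut A, h, Subtype.ext (Matrix.ext fun i j => by simp [revAut_apply])⟩
  have hsm : ∀ (g x : SpecialLinearGroup (Fin n) F),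
      x ∈ ((g • P : Sylow p _) : Subgroup (SpecialLinearGroup (Fin n) F)) ↔
        g⁻¹ * x * g ∈ UniTri.unitri n F := fun g x => by
    rw [Sylow.coe_subgroup_smul, Subgroup.mem_pointwise_smul_iff_inv_smul_mem, hP]
    simp [MulAut.smul_def]
  have hne : (P : Subgroup (SpecialLinearGroup (Fin n) F)) ≠ ⊥ := fun h => by
    have h1 := UniTri.tv_mem (n := n) (K := F) (i := ⟨0, by omega⟩) (j := ⟨1, by omega⟩)
      (by simp [Fin.lt_def]) 1
    rw [← hP, h, Subgroup.mem_bot] at h1
    have h2 : ⇈(SpecialLinearGroup.transvection (show (⟨0, by omega⟩ : Fin n) ≠ ⟨1, by omega⟩ by simp)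
        (1 : F)) ⟨0, by omega⟩ ⟨1, by omega⟩ = 0 := by
      rw [h1]; simp
    rw [UniTri.tv_apply] at h2
    simp at h2
  have hPV : Free P V₀ := by
    refine (Subgroup.eq_bot_iff_forall _).2 fun x hx => ?_
    obtain ⟨hU, hD⟩ := UniTri.mem_unitri.1 (hP ▸ hx.1 : x ∈ UniTri.unitri n F)
    obtain ⟨hL, -⟩ := UniTri.mem_unitri.1 ((hV x).1 hx.2)
    refine Subtype.ext (Matrix.ext fun i j => ?_)
    rcases lt_trichotomy i j with h | rfl | h
    · have := hL i.rev j.rev (Fin.rev_lt_rev.2 h)
      rw [revAut_apply, Fin.rev_rev, Fin.rev_rev] at this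
      simp [this, h.ne]
    · simp [hD]
    · simp [hU i j h, h.ne']
  -- every Sylow subgroup opposite to the unitriangular one is conjugate to the lower one under it
  have horb : ∀ V, Free P V → ∃ u ∈ (P : Subgroup (SpecialLinearGroup (Fin n) F)), u • V₀ = V := by
    intro V hfree
    obtain ⟨g, rfl⟩ := MulAction.exists_smul_eq (SpecialLinearGroup (Fin n) F) P V
    obtain ⟨u, hu, σ, b, hb, e⟩ := GLFlags.exists_bruhat (SpecialLinearGroup.toGL g)
    have hudet : (u : Matrix (Fin n) (Fin n) F).det = 1 := by
      rw [Matrix.det_of_isUpperTriangular hu.1]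
      exact Finset.prod_eq_one fun i _ => hu.2 i
    let u' : SpecialLinearGroup (Fin n) F := ⟨(u : Matrix (Fin n) (Fin n) F), hudet⟩
    have hu' : u' ∈ UniTri.unitri n F := ⟨hu.1, hu.2⟩
    have hue : SpecialLinearGroup.toGL u' = u := Units.ext rfl
    -- conjugation by `toGL g` on entries
    have hmem : ∀ y : SpecialLinearGroup (Fin n) F, y ∈ UniTri.unitri n F ↔
        SpecialLinearGroup.toGL y ∈ GLFlags.unitriangularGL n F := fun y => Iff.rfl
    have hnorm : ∀ z : GL (Fin n) F, z ∈ GLFlags.unitriangularGL n F →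
        b⁻¹ * z * b ∈ GLFlags.unitriangularGL n F := by
      intro z hz
      refine ⟨mul_mem (mul_mem (inv_mem hb) hz.1) hb, fun i => ?_⟩
      have h1 := GLFlags.mul_apply_diag (mul_mem (inv_mem hb) hz.1) hb i
      have h2 := GLFlags.mul_apply_diag (inv_mem hb) hz.1 i
      have h3 := GLFlags.mul_apply_diag (inv_mem hb) hb i
      rw [← Units.val_mul, inv_mul_cancel, Units.val_one, Matrix.one_apply_eq] at h3
      rw [← Units.val_mul] at h1 h2
      rw [h1, h2, hz.2, mul_one, ← h3]
    have hσ : ∀ i j : Fin n, i < j → σ.symm j < σ.symm i := by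
      intro i j hij
      rcases lt_trichotomy (σ.symm i) (σ.symm j) with hlt | heq | hgt
      · exfalso
        set t := SpecialLinearGroup.transvection hij.ne (1 : F) with ht
        set x := u' * t * u'⁻¹ with hx
        have hxP : x ∈ UniTri.unitri n F := mul_mem (mul_mem hu' (UniTri.tv_mem hij 1)) (inv_mem hu')
        have hxg : g⁻¹ * x * g ∈ UniTri.unitri n F := by
          rw [hmem]
          have e1 : SpecialLinearGroup.toGL (g⁻¹ * x * g) =
              b⁻¹ * ((GLFlags.permGL n F σ)⁻¹ * SpecialLinearGroup.toGL t * GLFlags.permGL n F σ) * b := by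
            simp only [hx, map_mul, map_inv, hue, e]
            group
          rw [e1]
          refine hnorm _ ?_
          rw [← map_inv]
          have e2 : ∀ r l, ((GLFlags.permGL n F σ⁻¹ * SpecialLinearGroup.toGL t * GLFlags.permGL n F σ :
              GL (Fin n) F) : Matrix (Fin n) (Fin n) F) r l = ⇈t (σ r) (σ l) := by
            intro r l
            rw [Units.val_mul, GLFlags.mul_permGL_apply, Units.val_mul, GLFlags.permGL_mul_apply]
            simp [Equiv.Perm.inv_def]
          refine ⟨fun r l hlr => ?_, fun r => ?_⟩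
          · rw [e2, ht, UniTri.tv_apply, Matrix.one_apply_ne, if_neg, add_zero]
            · rintro ⟨hr, hl⟩
              rw [← hr, ← hl, Equiv.symm_apply_apply, Equiv.symm_apply_apply] at hlt
              exact lt_asymm hlt hlr
            · exact fun h => (ne_of_gt (show l < r from hlr)) (σ.injective h)
          · rw [e2, ht, UniTri.tv_apply, Matrix.one_apply_eq, if_neg, add_zero]
            rintro ⟨hr, hl⟩
            exact hij.ne (hr ▸ hl)
        have h1 : x ∈ (P : Subgroup (SpecialLinearGroup (Fin n) F)) ⊓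
            ((g • P : Sylow p _) : Subgroup (SpecialLinearGroup (Fin n) F)) :=
          ⟨hP.symm ▸ hxP, (hsm g x).2 hxg⟩
        rw [show (P : Subgroup (SpecialLinearGroup (Fin n) F)) ⊓
          ((g • P : Sylow p _) : Subgroup (SpecialLinearGroup (Fin n) F)) = ⊥ from hfree,
          Subgroup.mem_bot] at h1
        have h2 : t = 1 := by
          have := congrArg (fun z => u'⁻¹ * z * u') h1
          simpa [hx, mul_assoc] using this
        have h3 : ⇈t i j = 0 := by rw [h2]; simp [hij.ne]
        rw [ht, UniTri.tv_apply] at h3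
        simp [hij.ne] at h3
      · exact absurd (σ.symm.injective heq) hij.ne
      · exact hgt
    have hrev : ∀ i, σ.symm i = i.rev := by
      have hm : StrictMono fun i : Fin n => σ.symm i.rev := fun i j hij => hσ _ _ (Fin.rev_lt_rev.2 hij)
      let π : Equiv.Perm (Fin n) := Fin.revPerm.trans σ.symm
      have hπ : π = 1 := GLFlags.eq_one_of_strictMono π hm
      intro i
      have := congrArg (fun f : Equiv.Perm (Fin n) => f i.rev) hπ
      simpa [π] using this
    refine ⟨u', hP.symm ▸ hu', ?_⟩
    have hval : ∀ (x : SpecialLinearGroup (Fin n) F) r l,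
        ((GLFlags.permGL n F σ⁻¹ * SpecialLinearGroup.toGL x * GLFlags.permGL n F σ :
          GL (Fin n) F) : Matrix (Fin n) (Fin n) F) r l = ⇈x r.rev l.rev := by
      intro x r l
      have hs : ∀ i, σ i = i.rev := fun i => by
        have := hrev (σ i)
        rw [Equiv.symm_apply_apply] at this
        exact (congrArg Fin.rev this).trans (Fin.rev_rev _) |>.symm
      rw [Units.val_mul, GLFlags.mul_permGL_apply, Units.val_mul, GLFlags.permGL_mul_apply]
      simp [hs, Equiv.Perm.inv_def]
    refine Sylow.ext ((u' • V₀).3 (g • P).2 fun x hx => ?_).symm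
    rw [Sylow.coe_subgroup_smul, Subgroup.mem_pointwise_smul_iff_inv_smul_mem, hV] at hx
    have hx' : revAut (u'⁻¹ * x * u') ∈ UniTri.unitri n F := by simpa [MulAut.smul_def] using hx
    rw [hsm, hmem]
    have e1 : SpecialLinearGroup.toGL (g⁻¹ * x * g) =
        b⁻¹ * ((GLFlags.permGL n F σ⁻¹) * SpecialLinearGroup.toGL (u'⁻¹ * x * u') *
          GLFlags.permGL n F σ) * b := by
      simp only [map_mul, map_inv, hue, e]
      group
    rw [e1]
    refine hnorm _ ⟨fun r l hlr => ?_, fun r => ?_⟩
    · rw [hval, ← revAut_apply]; exact hx'.1 hlr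
    · rw [hval, ← revAut_apply]; exact hx'.2 r
  -- a third Sylow subgroup opposite to both
  have hcom : ∃ W, Free P W ∧ Free V₀ W := by
    let E : Matrix (Fin n) (Fin n) F := antiPart fun i => i < i.rev
    let L : Matrix (Fin n) (Fin n) F := antiPart fun i => i.rev < i
    have hUu : (1 + E).BlockTriangular id ∧ ∀ i, (1 + E) i i = 1 := by
      refine ⟨fun r l hlr => ?_, fun i => ?_⟩
      · have hlr' : l < r := hlr
        simp only [Matrix.add_apply, E, antiPart, Matrix.of_apply, Matrix.one_apply_ne hlr'.ne']
        rw [if_neg, add_zero]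
        rintro ⟨h1, h2⟩
        exact lt_asymm hlr' (h1 ▸ h2)
      · simp only [Matrix.add_apply, E, antiPart, Matrix.of_apply, Matrix.one_apply_eq]
        rw [if_neg, add_zero]
        rintro ⟨h1, h2⟩
        exact lt_irrefl i (by rwa [← h1] at h2)
    let u : SpecialLinearGroup (Fin n) F := ⟨1 + E, by
      rw [Matrix.det_of_isUpperTriangular hUu.1]
      exact Finset.prod_eq_one fun i _ => hUu.2 i⟩
    have hu : u ∈ UniTri.unitri n F := hUu
    let v : SpecialLinearGroup (Fin n) F := revAut u
    have hv : v ∈ (V₀ : Subgroup (SpecialLinearGroup (Fin n) F)) := by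
      rw [hV, show revAut v = u from Subtype.ext (Matrix.ext fun i j => by simp [v, revAut_apply])]
      exact hu
    have hvL : ⇈v = 1 + L := by
      refine Matrix.ext fun i j => ?_
      show (1 + E) i.rev j.rev = _
      simp only [Matrix.add_apply, E, L, antiPart, Matrix.of_apply, Fin.rev_rev, Matrix.one_apply,
        Fin.rev_inj]
      congr 1
      refine if_congr (and_congr_left fun _ => ?_) rfl rfl
      rw [Fin.rev_eq_iff]
    let c : Fin n → F := fun i => if i.rev < i then 1 else if i < i.rev then -1 else 1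
    have hc : ∀ i, c i ≠ 0 := fun i => by simp only [c]; split_ifs <;> simp
    have hinv : ⇈(u⁻¹) = 1 - E := by
      have hEE : E * E = 0 := Matrix.ext fun i j => by
        rw [mul_antiPart]
        split_ifs with h
        · simp only [E, antiPart, Matrix.of_apply, Matrix.zero_apply]
          rw [if_neg]
          rintro ⟨h1, h2⟩
          rw [Fin.rev_inj] at h1
          subst h1
          simp only [Fin.rev_rev] at h
          exact lt_asymm h h2
        · rfl
      have h1 : ⇈u * (1 - E) = 1 := by
        show (1 + E) * (1 - E) = 1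
        rw [mul_sub, mul_one, add_mul, one_mul, hEE, add_zero, add_sub_cancel_right]
      have h2 : ⇈(u⁻¹) * ⇈u = 1 :=
        congrArg (fun X : SpecialLinearGroup (Fin n) F => ⇈X) (inv_mul_cancel u)
      calc ⇈(u⁻¹) = ⇈(u⁻¹) * (⇈u * (1 - E)) := by rw [h1, mul_one]
        _ = 1 - E := by rw [← mul_assoc, h2, one_mul]
    set N := u⁻¹ * v * u⁻¹ with hNdef
    have hN : ∀ i j, ⇈N i j = if j = i.rev then c i else 0 := by
      intro i j
      have hA : ∀ i j : Fin n, ((1 - E) * (1 + L)) i j =
          (1 - E + L) i j - if j = i ∧ i < i.rev then 1 else 0 := by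
        intro i j
        have : (1 - E) * (1 + L) = 1 - E + L - E * L := by noncomm_ring
        rw [this, Matrix.sub_apply]
        congr 1
        rw [mul_antiPart]
        simp only [E, antiPart, Matrix.of_apply, Fin.rev_rev, Fin.rev_inj]
        by_cases hij : j = i
        · subst hij
          simp
        · simp [hij]
      show ((⇈(u⁻¹) * ⇈v) * ⇈(u⁻¹)) i j = _
      rw [hinv, hvL, mul_sub, mul_one, Matrix.sub_apply, mul_antiPart, hA, hA]
      simp only [Matrix.sub_apply, Matrix.add_apply, E, L, antiPart, Matrix.of_apply,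
        Matrix.one_apply, Fin.rev_rev, Fin.rev_inj, c]
      by_cases h1 : j = i
      · subst h1
        rcases lt_trichotomy j j.rev with h | h | h
        · simp [h, h.ne, lt_asymm h]
        · simp [← h]
        · simp [h, h.ne, h.ne', lt_asymm h]
      · by_cases h2 : j = i.rev
        · subst h2
          rcases lt_trichotomy i i.rev with h | h | h
          · simp [h, h.ne, h.ne', lt_asymm h, Fin.rev_rev]
          · exact absurd h.symm h1
          · simp [h, h.ne, h.ne', lt_asymm h, Fin.rev_rev]
        · have h3 : j.rev ≠ i := fun h => h2 (by rw [← h, Fin.rev_rev])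
          simp [h1, h2, h3, Ne.symm h1, Ne.symm h3]
    refine ⟨v • P, (Subgroup.eq_bot_iff_forall _).2 fun x hx => ?_, ?_⟩
    · have hx1 : x ∈ UniTri.unitri n F := hP ▸ hx.1
      have hx2 := (hsm v x).1 hx.2
      set y := u⁻¹ * x * u with hy
      set z := u * (v⁻¹ * x * v) * u⁻¹ with hz
      obtain ⟨hyU, hyD⟩ := UniTri.mem_unitri.1
        (show y ∈ UniTri.unitri n F from mul_mem (mul_mem (inv_mem hu) hx1) hu)
      obtain ⟨hzU, -⟩ := UniTri.mem_unitri.1
        (show z ∈ UniTri.unitri n F from mul_mem (mul_mem hu hx2) (inv_mem hu))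
      have e : y * N = N * z := by rw [hy, hz, hNdef]; group
      have hy1 : y = 1 := by
        refine Subtype.ext (Matrix.ext fun i k => ?_)
        show ⇈y i k = (1 : Matrix (Fin n) (Fin n) F) i k
        rcases lt_trichotomy i k with h | h | h
        · have e' := congrArg (fun X : SpecialLinearGroup (Fin n) F => ⇈X i k.rev) e
          change (⇈y * ⇈N) i k.rev = (⇈N * ⇈z) i k.rev at e'
          rw [Matrix.mul_apply, Matrix.mul_apply] at e'
          simp only [hN] at e'
          rw [Finset.sum_eq_single k, Finset.sum_eq_single i.rev] at e'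
          · simp only [↓reduceIte, hzU i.rev k.rev (Fin.rev_lt_rev.2 h), mul_zero, mul_eq_zero,
              hc k, or_false] at e'
            simp [e', h.ne]
          · intro l _ hl; simp [hl]
          · simp
          · intro l _ hl
            have : k.rev ≠ l.rev := fun hh => hl (Fin.rev_inj.1 hh).symm
            simp [this]
          · simp
        · subst h; simp [hyD]
        · simp [hyU i k h, h.ne']
      have := congrArg (fun w => u * w * u⁻¹) hy1
      simpa [hy, mul_assoc] using this
    · have := free_smul (free_symm hPV) v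
      rwa [smul_self_eq V₀ hv] at this
  have hgood : Good p (SpecialLinearGroup (Fin n) F) := by
    refine good_of_base hne horb hcom
      (S := (P : Set (SpecialLinearGroup (Fin n) F)) ∪ (V₀ : Set (SpecialLinearGroup (Fin n) F))) ?_ ?_
    · refine Classical.sl_eq_top_of_transvection _ fun i j hij c => Subgroup.subset_closure ?_
      rcases lt_or_gt_of_ne hij with h | h
      · exact Or.inl (show _ ∈ (P : Subgroup (SpecialLinearGroup (Fin n) F)) from hP.symm ▸ UniTri.tv_mem h c)
      · refine Or.inr (show _ ∈ (V₀ : Subgroup (SpecialLinearGroup (Fin n) F)) from (hV _).2 ?_)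
        have : revAut (SpecialLinearGroup.transvection hij c) =
            SpecialLinearGroup.transvection (Fin.rev_lt_rev.2 h).ne c := by
          refine Subtype.ext (Matrix.ext fun r l => ?_)
          rw [revAut_apply, UniTri.tv_apply, UniTri.tv_apply]
          simp only [Matrix.one_apply, Fin.rev_inj]
          congr 1
          refine if_congr (and_congr ?_ ?_) rfl rfl <;> exact Fin.rev_eq_iff
        rw [this]
        exact UniTri.tv_mem (Fin.rev_lt_rev.2 h) c
    · rintro s (hs | hs)
      · rw [smul_self_eq P hs]; exact .refl _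
      · have h1 := free_smul hPV s
        rw [smul_self_eq V₀ hs] at h1
        exact .trans _ _ _ (.rel _ _ hPV) (.symm _ _ (.rel _ _ h1))
  refine good_of_surjective (QuotientGroup.mk' _) (QuotientGroup.mk'_surjective _)
    (QuotientGroup.ker_mk' _).le ?_ hgood
  intro h
  obtain ⟨z, hz⟩ := exists_prime_orderOf_dvd_card' p h
  have hzc : (z : SpecialLinearGroup (Fin n) F) ∈ Subgroup.center _ := (QuotientGroup.ker_mk' _).le z.2
  obtain ⟨r, -, hr⟩ := Matrix.SpecialLinearGroup.mem_center_iff.1 hzc
  have h1 : (z : SpecialLinearGroup (Fin n) F) ^ p = 1 := by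
    rw [← SubmonoidClass.coe_pow, ← hz, pow_orderOf_eq_one, OneMemClass.coe_one]
  have h2 : scalar (Fin n) (r ^ p) = (1 : Matrix (Fin n) (Fin n) F) := by
    rw [map_pow, hr, ← Matrix.SpecialLinearGroup.coe_pow, h1, Matrix.SpecialLinearGroup.coe_one]
  have h3 : r ^ p = 1 := by
    have := congr_fun₂ h2 ⟨0, by omega⟩ ⟨0, by omega⟩
    simpa using this
  have h4 : r = 1 := by
    have : (r - 1) ^ p = 0 := by rw [sub_pow_char, h3, one_pow, sub_self]
    exact sub_eq_zero.1 (eq_zero_of_pow_eq_zero this)
  have h5 : z = 1 := by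
    apply Subtype.ext
    apply Subtype.ext
    show (z : SpecialLinearGroup (Fin n) F).1 = 1
    rw [← hr, h4, map_one]
  rw [h5, orderOf_one] at hz
  exact (Fact.out (p := p.Prime)).one_lt.ne hz

end Cfsg.Agent.SylOpp
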